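import Mathlib
import Cfsg.Agent.Lib.helper8.RSM.Defs
import Cfsg.Agent.Lib.helper7.REE.Defs

/-!
# Project RMD (helper6) = S2343: the minimal degree of `²G₂(q)` is at least `q² - q + 1`

Abstract setting: a finite group `G` with helper8's data `ReeU G K m` (the Sylow 3-subgroup
`{x t u v}` with its multiplication, the torus generator `h0` with weights `(a0, N a0, a0 N a0)`)
and helper7's `ReeAx G K m` (one class of involutions, the four-group `{1, t, n0, t n0}`), and a
finite-dimensional complex representation `ρ` of `G` on `V`.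

* `eP r ψ`   : the isotypic projection `|A|⁻¹ ∑ a, ψ (-a) • r a` of an abelian group `A` acting by
               `r : A → End V` (`r (a + b) = r a * r b`, `r 0 = 1`) for the character `ψ`;
* `rA RU ρ`  : the action of `U₂ = {x 0 u v} ≅ K × K` on `V`;
* `phiB m a t`: the automorphism `(u, v) ↦ (N a * u, a * N a * (v + t * u))` of `K × K` induced by
               conjugation with `h(a) * x t 0 0`;
* `phiNeg`   : `(u, v) ↦ (u, -v)`, induced by the involution `t0 = h0 ^ ((q - 1) / 2)`;
* `tt0 RU`   : that involution.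
-/

set_option autoImplicit false

namespace Cfsg.Agent.Lib.helper6.RMD

open Cfsg.Agent.Lib.helper8.RSM

universe u v w

/-- the isotypic projection of `r` for the character `ψ` -/
noncomputable def eP {A : Type u} [AddCommGroup A] [Fintype A] {V : Type w} [AddCommGroup V]
    [Module ℂ V] (r : A → V →ₗ[ℂ] V) (ψ : AddChar A ℂ) : V →ₗ[ℂ] V :=
  (Fintype.card A : ℂ)⁻¹ • ∑ a : A, ψ (-a) • r a

/-- `(u, v) ↦ (N a * u, a * N a * (v + t * u))` -/
def phiB {K : Type v} [Field K] (m : ℕ) (a t : K) : K × K →+ K × K where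
  toFun p := (nrm m a * p.1, a * nrm m a * (p.2 + t * p.1))
  map_zero' := by simp
  map_add' p p' := by
    ext
    · simp only [Prod.fst_add]; ring
    · simp only [Prod.fst_add, Prod.snd_add]; ring

/-- `(u, v) ↦ (u, -v)` -/
def phiNeg (K : Type v) [Field K] : K × K →+ K × K where
  toFun p := (p.1, -p.2)
  map_zero' := by simp
  map_add' p p' := by
    ext
    · simp
    · simp only [Prod.snd_add]; ring

theorem phiB_apply {K : Type v} [Field K] (m : ℕ) (a t : K) (p : K × K) :
    phiB m a t p = (nrm m a * p.1, a * nrm m a * (p.2 + t * p.1)) := rfl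

theorem phiNeg_apply {K : Type v} [Field K] (p : K × K) : phiNeg K p = (p.1, -p.2) := rfl

section Ree

variable {G : Type u} [Group G] {K : Type v} [Field K] [Fintype K] {m : ℕ}
variable {V : Type w} [AddCommGroup V] [Module ℂ V]

/-- the involution of the torus -/
def tt0 (RU : ReeU G K m) : G := RU.h0 ^ ((3 ^ (2 * m + 1) - 1) / 2)

/-- the action of `U₂ ≅ K × K` on `V` -/
def rA (RU : ReeU G K m) (ρ : Representation ℂ G V) (p : K × K) : V →ₗ[ℂ] V :=
  ρ (RU.x 0 p.1 p.2)

/-- `ψ` is nontrivial on the centre `Z = {x 0 0 v}` -/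
def NontrivZ (ψ : AddChar (K × K) ℂ) : Prop := ∃ v : K, ψ (0, v) ≠ 1

end Ree

end Cfsg.Agent.Lib.helper6.RMD
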